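import Groth.Agent.Lib.Helper2.SuppTensor

/-!
# Braiding of the tensor product of sheaves of modules on a ringed site (helper2)
-/

set_option autoImplicit false
universe u
open CategoryTheory CategoryTheory.Limits Opposite MonoidalCategory

noncomputable section

namespace Groth.Agent.Lib.Helper2.Supp.Braid

variable {C : Type u} [SmallCategory C] {J : GrothendieckTopology C}
  (O : Sheaf J CommRingCat.{u})

/-- presheaves of modules -/
abbrev PM : Type (u + 1) := PresheafOfModules.{u} (O.obj ⋙ forget₂ CommRingCat.{u} RingCat.{u})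

/-- forget to presheaves of modules -/
abbrev fg : ModSite.Mod O ⥤ PM O :=
  SheafOfModules.forget (ModSite.ringSh O)

/-- `A ⊗ B ≅ B ⊗ A`. -/
def braidApp (A B : ModSite.Mod O) :
    ((ModSite.tensorBi O).obj A).obj B ≅ ((ModSite.tensorBi O).obj B).obj A :=
  (ModSite.sheafify O).mapIso (BraidedCategory.braiding (C := PM O) ((fg O).obj A) ((fg O).obj B))

lemma braid_nat_left {A A' : ModSite.Mod O} (g : A ⟶ A') (B : ModSite.Mod O) :
    ((ModSite.tensorBi O).map g).app B ≫ (braidApp O A' B).hom =
      (braidApp O A B).hom ≫ ((ModSite.tensorBi O).obj B).map g := by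
  change (ModSite.sheafify O).map (MonoidalCategoryStruct.whiskerRight (C := PM O) ((fg O).map g) ((fg O).obj B)) ≫
      (ModSite.sheafify O).map (BraidedCategory.braiding (C := PM O) ((fg O).obj A') ((fg O).obj B)).hom =
    (ModSite.sheafify O).map (BraidedCategory.braiding (C := PM O) ((fg O).obj A) ((fg O).obj B)).hom ≫
      (ModSite.sheafify O).map (MonoidalCategoryStruct.whiskerLeft (C := PM O) ((fg O).obj B) ((fg O).map g))
  rw [← Functor.map_comp, ← Functor.map_comp]
  exact congrArg (fun t => (ModSite.sheafify O).map t)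
    (BraidedCategory.braiding_naturality_left (C := PM O) ((fg O).map g) ((fg O).obj B))

lemma braid_nat_right (A : ModSite.Mod O) {B B' : ModSite.Mod O} (g : B ⟶ B') :
    ((ModSite.tensorBi O).obj A).map g ≫ (braidApp O A B').hom =
      (braidApp O A B).hom ≫ ((ModSite.tensorBi O).map g).app A := by
  change (ModSite.sheafify O).map (MonoidalCategoryStruct.whiskerLeft (C := PM O) ((fg O).obj A) ((fg O).map g)) ≫
      (ModSite.sheafify O).map (BraidedCategory.braiding (C := PM O) ((fg O).obj A) ((fg O).obj B')).hom =
    (ModSite.sheafify O).map (BraidedCategory.braiding (C := PM O) ((fg O).obj A) ((fg O).obj B)).hom ≫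
      (ModSite.sheafify O).map (MonoidalCategoryStruct.whiskerRight (C := PM O) ((fg O).map g) ((fg O).obj A))
  rw [← Functor.map_comp, ← Functor.map_comp]
  exact congrArg (fun t => (ModSite.sheafify O).map t)
    (BraidedCategory.braiding_naturality_right (C := PM O) ((fg O).obj A) ((fg O).map g))

/-- `A ⊗ - ≅ - ⊗ A`. -/
def braidObj (A : ModSite.Mod O) : (ModSite.tensorBi O).obj A ≅ (ModSite.tensorBi O).flip.obj A :=
  NatIso.ofComponents (fun B => braidApp O A B) (fun g => braid_nat_right O A g)

/-- `tensorBi ≅ tensorBi.flip`. -/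
def braid : ModSite.tensorBi O ≅ (ModSite.tensorBi O).flip :=
  NatIso.ofComponents (fun A => braidObj O A) (by
    intro A A' g
    apply NatTrans.ext
    funext B
    exact braid_nat_left O g B)

end Groth.Agent.Lib.Helper2.Supp.Braid
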