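import Groth.Agent.Lib.Helper2.Supp.Braid

/-!
# `Q(T) ⊗ M ≅ T ⊗ Q(M)` and `Γ_Z ℋom(M, -) ≅ ℋom(Q M, -)` (helper2)
-/

set_option autoImplicit false
universe u
open CategoryTheory CategoryTheory.Limits Opposite MonoidalCategory

noncomputable section

namespace Groth.Agent.Lib.Helper2.SuppTensor

open Groth.Agent.Lib.Helper2.SuppAdj Groth.Agent.Lib.Helper2.Supp.Braid

section Abstract

variable {A B : Type*} [Category A] [Category B] [Abelian A] [Preadditive B]
  {L : B ⥤ A} {R : A ⥤ B} (adj₁ : L ⊣ R) (F F' : A ⥤ A) [F.PreservesZeroMorphisms]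
  [F'.PreservesZeroMorphisms]
  [∀ T : A, PreservesColimit (parallelPair (adj₁.counit.app T) 0) F]
  [∀ T : A, PreservesColimit (parallelPair (adj₁.counit.app T) 0) F']
  (H1 : ∀ T : A, F.map (adj₁.counit.app T) ≫ cokernel.π (adj₁.counit.app (F.obj T)) = 0)
  (H1' : ∀ T : A, F'.map (adj₁.counit.app T) ≫ cokernel.π (adj₁.counit.app (F'.obj T)) = 0)
  (α : F ⟶ F')

/-- naturality of `commA` in the functor. -/
lemma commA_naturality (T : A) :
    commA adj₁ F H1 T ≫ (Qf adj₁).map (α.app T) =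
      α.app (cokernel (adj₁.counit.app T)) ≫ commA adj₁ F' H1' T := by
  refine (cancel_epi (F.map (cokernel.π (adj₁.counit.app T)))).1 ?_
  calc F.map (cokernel.π (adj₁.counit.app T)) ≫ commA adj₁ F H1 T ≫ (Qf adj₁).map (α.app T)
      = (F.map (cokernel.π (adj₁.counit.app T)) ≫ commA adj₁ F H1 T) ≫ (Qf adj₁).map (α.app T) :=
        (Category.assoc _ _ _).symm
    _ = cokernel.π (adj₁.counit.app (F.obj T)) ≫ (Qf adj₁).map (α.app T) := by rw [π_commA]
    _ = α.app T ≫ cokernel.π (adj₁.counit.app (F'.obj T)) := π_Qf_map adj₁ (α.app T)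
    _ = α.app T ≫ (F'.map (cokernel.π (adj₁.counit.app T)) ≫ commA adj₁ F' H1' T) := by
        rw [π_commA]
    _ = (α.app T ≫ F'.map (cokernel.π (adj₁.counit.app T))) ≫ commA adj₁ F' H1' T :=
        (Category.assoc _ _ _).symm
    _ = (F.map (cokernel.π (adj₁.counit.app T)) ≫ α.app _) ≫ commA adj₁ F' H1' T :=
        congrArg (fun t => t ≫ commA adj₁ F' H1' T)
          (α.naturality (cokernel.π (adj₁.counit.app T))).symm
    _ = _ := Category.assoc _ _ _

end Abstract

section Concrete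

open Groth.Agent.Lib.Helper13 Groth.Agent.Lib.Helper13.ModSiteTensor

variable {C : Type u} [SmallCategory C] {J : GrothendieckTopology C}
  (O : Sheaf J CommRingCat.{u}) (U : C) (M : ModSite.Mod O) [ModSite.HasPushOver O U]

local instance (T : ModSite.Mod O) : ModSite.HasSheafHom T := hasSheafHom O T

/-- `Q(M) ⊗ T ≅ Q(M ⊗ T)`. -/
def step3App (T : ModSite.Mod O) :
    ((ModSite.tensorBi O).obj ((ModSite.quotOn O U).obj M)).obj T ≅
      (ModSite.quotOn O U).obj (((ModSite.tensorBi O).obj M).obj T) :=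
  (quotTensorIso O U T).app M

lemma step3App_hom (T : ModSite.Mod O) :
    (step3App O U M T).hom = commA (ModSite.extZeroAdj O U) (tensM O T) (H1 O U T) M := rfl

/-- `Q(M) ⊗ - ≅ Q(M ⊗ -)`. -/
def step3 : (ModSite.tensorBi O).obj ((ModSite.quotOn O U).obj M) ≅
    (ModSite.tensorBi O).obj M ⋙ ModSite.quotOn O U :=
  NatIso.ofComponents (fun T => step3App O U M T) (by
    intro T T' g
    rw [step3App_hom, step3App_hom]
    exact (commA_naturality (ModSite.extZeroAdj O U) (tensM O T) (tensM O T') (H1 O U T)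
      (H1 O U T') ((ModSite.tensorBi O).flip.map g) M).symm)

/-- **`Q(T) ⊗ M ≅ T ⊗ Q(M)`, naturally in `T`.** -/
def quotTensorSwapIso :
    ModSite.quotOn O U ⋙ tensM O M ≅ tensM O ((ModSite.quotOn O U).obj M) :=
  quotTensorIso O U M ≪≫ Functor.isoWhiskerRight (braidObj O M).symm (ModSite.quotOn O U) ≪≫
    (step3 O U M).symm ≪≫ braidObj O _

/-- **`ℋom(M, -) ⋙ Γ_Z ≅ ℋom(Q M, -)`.** -/
def sheafHomSectOnQuotIso [ModSite.HasSheafHom M]
    [ModSite.HasSheafHom ((ModSite.quotOn O U).obj M)] :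
    ModSite.sheafHom M ⋙ ModSite.sectOn O U ≅
      ModSite.sheafHom ((ModSite.quotOn O U).obj M) :=
  Adjunction.rightAdjointUniq
    (((adjQuotSect O U).comp (ModSite.sheafHomAdj M)).ofNatIsoLeft (quotTensorSwapIso O U M))
    (ModSite.sheafHomAdj ((ModSite.quotOn O U).obj M))

end Concrete

end Groth.Agent.Lib.Helper2.SuppTensor
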